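import Mathlib
import Cfsg.Agent.Lib.U43.Pres

/-!
# A computable model of the centraliser of an involution in `U₄(3)`

`SL` is `SL₂(3)` given by its table, `H0` is the group of order 1152.
-/

set_option autoImplicit false

namespace CfsgLib.U43

/-- The group `SL₂(3)`: the element `e + 2 * q + 8 * c` is `(-1) ^ e * [1, i, j, k] q * w ^ c`. -/
def SL : Type := Fin 24

namespace SL

instance : DecidableEq SL := inferInstanceAs (DecidableEq (Fin 24))
instance : Fintype SL := inferInstanceAs (Fintype (Fin 24))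
instance decAll (P : SL → Prop) [h : DecidablePred P] : Decidable (∀ x, P x) :=
  @Nat.decidableForallFin 24 P h
instance decEx (P : SL → Prop) [h : DecidablePred P] : Decidable (∃ x, P x) :=
  @Nat.decidableExistsFin 24 P h

/-- The element with a given number. -/
def o (n : ℕ) : SL := Fin.ofNat 24 n

/-- The number of an element. -/
def v (a : SL) : ℕ := Fin.val (n := 24) a

/-- The multiplication table. -/
def mT : ℕ := 0x5a98d4a1cf18885080c79ca958c2d752dac425ee10ca4004e694eb4846f64a1ee52d8d080e610c858c2f694e95425cf5a9ac004c7188a4846d79cab473d286b14b31c2029043b5e30ad2537b9096356a3980121462bda11a56726354b73d092144331c01a5653b5e116b16a7b9282906239820ad272bda3021420188c7a56309cad7635285a9cf2900110ce6ad21194ef66b10952dee3984308085bda538c2957b94b4a18d31c62004a4b5e72846b473d6a425ac080a431c438c2b4b5e534a1ac73d4b004853986284695bda724258d7b96a10cc72140194ed7a561152dcf63509188e6290209caf6ad2305a9ee6b1288c272a56d74a16a635cf08062214c784653ad2f64254b6b1ee00443290e694e30bda9552d287b98d10c20398859ca11b5eb45a90973dac1880131ca4ad2d78c2536b1cf4a14b290c708043a56f684672635ee4256a214e600462b5e9594e1173d8d52d0931c8510c01bdab49ca307b9ac5a928398a418820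

instance : Mul SL := ⟨fun a b => o (mT >>> (5 * (24 * a.v + b.v)) % 32)⟩
instance : Inv SL := ⟨fun a => o (0x52dcf63528a5653b5e3031c8510c20 >>> (5 * a.v) % 32)⟩
instance : One SL := ⟨o 0⟩
instance : Group SL :=
  Group.ofLeftAxioms (by decide +kernel) (by decide +kernel) (by decide +kernel)

/-- The outer automorphism `i ↦ -i`, `j ↦ -k`. -/
def th : SL →* SL :=
  MonoidHom.mk' (fun a => o (0x635cf52d28a56d794e30214c710c20 >>> (5 * a.v) % 32)) (by decide +kernel)

/-- An entry of the matrix of an element. -/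
def ent (a : SL) (k : ℕ) : ZMod 3 :=
  (0x86496498a251251a26196192458a58a456a96a9518248241 >>> (2 * (4 * a.v + k)) % 4 : ℕ)

/-- The isomorphism with the matrix group. -/
def rho : SL →* Matrix.SpecialLinearGroup (Fin 2) (ZMod 3) :=
  MonoidHom.mk' (fun a => ⟨!![ent a 0, ent a 1; ent a 2, ent a 3], by
    rw [Matrix.det_fin_two_of]; revert a; decide +kernel⟩) fun a b => Subtype.ext (by
      change !![ent (a * b) 0, ent (a * b) 1; ent (a * b) 2, ent (a * b) 3] =
        !![ent a 0, ent a 1; ent a 2, ent a 3] * !![ent b 0, ent b 1; ent b 2, ent b 3]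
      rw [Matrix.mul_fin_two]
      revert a b; decide +kernel)

theorem rho_bijective : Function.Bijective rho := by
  constructor
  · rw [injective_iff_map_eq_one]
    intro a h
    have h1 : !![ent a 0, ent a 1; ent a 2, ent a 3] = 1 := congrArg Subtype.val h
    revert a; decide +kernel
  · rintro ⟨M, hM⟩
    rw [Matrix.det_fin_two] at hM
    obtain ⟨a, h⟩ := (by decide +kernel : ∀ x y z w : ZMod 3, x * w - y * z = 1 →
      ∃ a : SL, !![ent a 0, ent a 1; ent a 2, ent a 3] = !![x, y; z, w]) _ _ _ _ hM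
    exact ⟨a, Subtype.ext (h.trans (Matrix.eta_fin_two M).symm)⟩

theorem hom_ext {G : Type*} [Group G] {f g : SL →* G} (h1 : f (o 2) = g (o 2))
    (h2 : f (o 4) = g (o 4)) (h3 : f (o 8) = g (o 8)) : f = g := by
  ext a
  obtain ⟨x, y, z, rfl⟩ := (by decide +kernel : ∀ a : SL, ∃ x : Fin 4, ∃ y : Fin 2, ∃ z : Fin 3,
    a = o 2 ^ x.val * o 4 ^ y.val * o 8 ^ z.val) a
  simp only [map_mul, map_pow, h1, h2, h3]

theorem th_th : ∀ a, th (th a) = a := by decide +kernel
theorem th_neg : th (o 1) = o 1 := by decide +kernel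
theorem neg_comm : ∀ a : SL, a * o 1 = o 1 * a := by decide +kernel
theorem neg_neg : ∀ a : SL, o 1 * (o 1 * a) = a := by decide +kernel
theorem neg_left (a b : SL) : a * (o 1 * b) = o 1 * (a * b) := by
  rw [← mul_assoc, neg_comm, mul_assoc]

end SL

open SL

/-- Unreduced elements `(a, b) s ^ p u ^ q`. -/
abbrev R0 : Type := SL × SL × Bool × Bool

/-- The action of `s ^ p u ^ q` on the two factors. -/
def act (p q : Bool) (c d : SL) : SL × SL :=
  (cond q (th (cond (xor p q) d c)) (cond p d c), cond q (th (cond (xor p q) c d)) (cond p c d))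

/-- Multiplication by `-1` if the flag is set. -/
def sg1 (e : Bool) (a : SL) : SL := cond e (o 1 * a) a

/-- The unreduced product. -/
def mulR (x y : R0) : R0 :=
  (sg1 (x.2.2.2 && y.2.2.1) (x.1 * (act x.2.2.1 x.2.2.2 y.1 y.2.1).1),
    x.2.1 * (act x.2.2.1 x.2.2.2 y.1 y.2.1).2, xor x.2.2.1 y.2.2.1, xor x.2.2.2 y.2.2.2)

/-- Multiplication of both components by `-1` if the flag is set. -/
def ngR (e : Bool) (x : R0) : R0 := (sg1 e x.1, sg1 e x.2.1, x.2.2)

/-- The normal form. -/
def nf (x : R0) : R0 := ngR (x.2.1.v % 2 == 1) x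

theorem nf_even (x : R0) : (nf x).2.1.v % 2 = 0 :=
  (by decide +kernel : ∀ b : SL, (sg1 (b.v % 2 == 1) b).v % 2 = 0) x.2.1

theorem nf_ngR (e : Bool) (x : R0) : nf (ngR e x) = nf x := by
  obtain ⟨a, b, p⟩ := x
  have := (by decide +kernel : ∀ (e : Bool) (a b : SL),
    sg1 ((sg1 e b).v % 2 == 1) (sg1 e a) = sg1 (b.v % 2 == 1) a) e
  simp only [nf, ngR, this]

theorem mulR_ngR (e e' : Bool) (x y : R0) :
    mulR (ngR e x) (ngR e' y) = ngR (xor e e') (mulR x y) := by
  obtain ⟨a, b, p, q⟩ := x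
  obtain ⟨c, d, r, s⟩ := y
  cases e <;> cases e' <;> cases p <;> cases q <;> cases r <;>
    simp [mulR, ngR, sg1, act, th_neg, SL.neg_neg, neg_left, mul_assoc]

theorem mulR_assoc (x y w : R0) : ∃ e, mulR (mulR x y) w = ngR e (mulR x (mulR y w)) := by
  obtain ⟨a, b, p, q⟩ := x
  obtain ⟨c, d, r, s⟩ := y
  obtain ⟨a', b', r', s'⟩ := w
  refine ⟨(xor p q) && s && r', ?_⟩
  cases p <;> cases q <;> cases r <;> cases s <;> cases r' <;>
    simp [mulR, ngR, sg1, act, th_neg, th_th, SL.neg_neg, neg_left, mul_assoc]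

/-- The group of order 1152. -/
def H0 : Type := {x : R0 // x.2.1.v % 2 = 0}

namespace H0

instance : DecidableEq H0 := inferInstanceAs (DecidableEq {x : R0 // x.2.1.v % 2 = 0})

/-- The class of an unreduced element. -/
def cl (x : R0) : H0 := ⟨nf x, nf_even x⟩

/-- The elements of `H0`. -/
def mk (a : SL) (b : Fin 12) (p q : Bool) : H0 :=
  ⟨(a, o (2 * b.val), p, q), (by decide +kernel : ∀ b : Fin 12, (o (2 * b.val)).v % 2 = 0) b⟩

theorem mk_surj (x : H0) : ∃ a b p q, mk a b p q = x := by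
  obtain ⟨⟨a, b, p, q⟩, h⟩ := x
  obtain ⟨c, rfl⟩ := (by decide +kernel : ∀ b : SL, b.v % 2 = 0 → ∃ c : Fin 12,
    o (2 * c.val) = b) b h
  exact ⟨a, c, p, q, rfl⟩

instance decAll (P : H0 → Prop) [DecidablePred P] : Decidable (∀ x, P x) :=
  decidable_of_iff (∀ a b p q, P (mk a b p q)) ⟨fun h x => by
    obtain ⟨a, b, p, q, rfl⟩ := mk_surj x
    exact h a b p q, fun h _ _ _ _ => h _⟩

theorem card_eq : Nat.card H0 = 1152 := by
  have : Function.Bijective fun x : SL × Fin 12 × Bool × Bool => mk x.1 x.2.1 x.2.2.1 x.2.2.2 := by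
    refine ⟨?_, fun x => ?_⟩
    · rintro ⟨a, b, p, q⟩ ⟨c, d, r, s⟩ h
      have h1 := congrArg Subtype.val h
      simp only [mk, Prod.mk.injEq] at h1 ⊢
      exact ⟨h1.1, (by decide +kernel : ∀ b d : Fin 12, o (2 * b.val) = o (2 * d.val) → b = d) b d
        h1.2.1, h1.2.2⟩
    · obtain ⟨a, b, p, q, rfl⟩ := mk_surj x
      exact ⟨(a, b, p, q), rfl⟩
  rw [← Nat.card_eq_of_bijective _ this, Nat.card_prod, Nat.card_prod, Nat.card_prod,
    show Nat.card SL = 24 from Nat.card_fin 24]
  simp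

instance : Finite H0 := Nat.finite_of_card_ne_zero (by rw [card_eq]; norm_num)

instance : Mul H0 := ⟨fun x y => cl (mulR x.1 y.1)⟩
instance : One H0 := ⟨mk 1 0 false false⟩
instance : Inv H0 := ⟨fun x => cl (sg1 (x.1.2.2.1 && x.1.2.2.2)
  (act x.1.2.2.1 x.1.2.2.2 x.1.1⁻¹ x.1.2.1⁻¹).1, (act x.1.2.2.1 x.1.2.2.2 x.1.1⁻¹ x.1.2.1⁻¹).2,
    x.1.2.2)⟩

theorem mul_assoc' (x y w : H0) : x * y * w = x * (y * w) := by
  refine Subtype.ext ?_
  change nf (mulR (ngR _ _) (ngR false w.1)) = nf (mulR (ngR false x.1) (ngR _ _))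
  obtain ⟨e, he⟩ := mulR_assoc x.1 y.1 w.1
  rw [mulR_ngR, mulR_ngR, nf_ngR, nf_ngR, he, nf_ngR]

instance : Group H0 := Group.ofLeftAxioms mul_assoc' (by decide +kernel) (by decide +kernel)

end H0

/-- The generator `i`. -/
def hi : H0 := H0.mk (o 2) 0 false false
/-- The generator `j`. -/
def hj : H0 := H0.mk (o 4) 0 false false
/-- The generator `w`. -/
def hw : H0 := H0.mk (o 8) 0 false false
/-- The central involution. -/
def hz : H0 := H0.mk (o 1) 0 false false
/-- The generator `s`. -/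
def hs0 : H0 := H0.mk 1 0 true false
/-- The generator `u`. -/
def hu0 : H0 := H0.mk 1 0 false true

variable {G : Type*} [Group G]

/-- Data generating a copy of `H0`. -/
structure HD (f : SL →* G) (s u : G) : Prop where
  inj : Function.Injective f
  ss : s * s = 1
  uu : u * u = 1
  comm : ∀ a b, f a * (s * f b * s) = s * f b * s * f a
  meet : ∀ a b, f a = s * f b * s → a = 1 ∨ a = o 1
  sz : s * f (o 1) * s = f (o 1)
  su : s * u * (s * u) = f (o 1)
  uc : ∀ a, u * f a * u = s * f (th a) * s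

namespace HD

variable {f : SL →* G} {s u : G}

theorem symm (h : HD f s u) : HD f u s where
  inj := h.inj
  ss := h.uu
  uu := h.ss
  comm a b := by rw [h.uc, h.comm]
  meet a b e := h.meet a (th b) (by rw [e, h.uc])
  sz := by rw [h.uc, th_neg, h.sz]
  su := by
    have : u * s * (u * s) = (s * u * (s * u))⁻¹ := by
      simp only [mul_inv_rev, inv_eq h.ss, inv_eq h.uu]
    rw [this, h.su, ← map_inv]
    exact congrArg f (by decide +kernel)
  uc a := by rw [h.uc, th_th]

theorem sss (h : HD f s u) (x : G) : s * (s * x) = x := by rw [← mul_assoc, h.ss, one_mul]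

theorem zs (h : HD f s u) (x : G) : s * (f (o 1) * x) = f (o 1) * (s * x) := by
  conv_rhs => rw [← h.sz]
  simp [mul_assoc, h.sss]

theorem relH (h : HD f s u) : RelH (f (o 2)) (f (o 4)) (f (o 8)) s u := by
  have k : ∀ {a : SL}, u * f a * u * (s * f (th a)⁻¹ * s) = 1 := fun {a} => by
    rw [h.uc, map_inv]
    simp [mul_assoc, h.sss, h.ss]
  have hz : f (o 2) * f (o 2) = f (o 1) := by rw [← map_mul]; exact congrArg f (by decide +kernel)
  refine ⟨h.ss, h.uu, ?_, ?_, ?_, ?_, ?_, ?_, h.comm _ _, h.comm _ _, h.comm _ _, h.comm _ _,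
    h.comm _ _, by rw [hz, h.sz], by rw [hz, h.su], k, ?_, k⟩
  rotate_right
  · rw [← map_mul]; exact k
  all_goals
    simp only [← map_mul, ← map_inv, ← map_one f]
    exact congrArg f (by decide +kernel)

/-- The value of an unreduced element. -/
def val (f : SL →* G) (s u : G) (x : R0) : G :=
  f x.1 * (s * f x.2.1 * s) * (cond x.2.2.1 s 1 * cond x.2.2.2 u 1)

theorem val_ngR (h : HD f s u) (e : Bool) (x : R0) : val f s u (ngR e x) = val f s u x := by
  cases e
  · rfl
  · change f (o 1 * x.1) * (s * f (o 1 * x.2.1) * s) * _ = f x.1 * (s * f x.2.1 * s) * _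
    have : s * f (o 1 * x.2.1) * s = f (o 1) * (s * f x.2.1 * s) := by
      simp [mul_assoc, h.zs]
    rw [this, ← mul_assoc (f _), ← map_mul, mul_assoc (o 1), SL.neg_comm, SL.neg_neg]
    rfl

theorem delta_mul (h : HD f s u) (p q : Bool) (c d : SL) :
    cond p s 1 * cond q u 1 * (f c * (s * f d * s)) =
      f (act p q c d).1 * (s * f (act p q c d).2 * s) * (cond p s 1 * cond q u 1) := by
  have hs : ∀ c d, s * (f c * (s * f d * s)) = f d * (s * f c * s) * s := fun c d => by
    rw [h.comm d]; simp [mul_assoc, h.sss, h.ss]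
  have hu : ∀ c d, u * (f c * (s * f d * s)) = f (th d) * (s * f (th c) * s) * u := fun c d => by
    rw [h.comm (th d), h.symm.uc d, ← h.uc c]; simp [mul_assoc, h.symm.sss, h.uu]
  cases p <;> cases q
  · simp [act]
  · simp [act, hu]
  · simp [act, hs]
  · simp only [act, cond_true, Bool.xor_self, cond_false]
    rw [mul_assoc, hu, ← mul_assoc, hs, mul_assoc]

theorem val_mulR (h : HD f s u) (x y : R0) : val f s u (mulR x y) = val f s u x * val f s u y := by
  obtain ⟨a, b, p, q⟩ := x
  obtain ⟨c, d, r, t⟩ := y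
  have hus : u * s = f (o 1) * (s * u) := by
    rw [← h.symm.su]; simp [mul_assoc, h.sss, h.uu]
  have hd : cond p s 1 * cond q u 1 * (cond r s 1 * cond t u 1) =
      cond (q && r) (f (o 1)) 1 * (cond (xor p r) s 1 * cond (xor q t) u 1) := by
    cases p <;> cases q <;> cases r <;> cases t <;>
      simp [mul_assoc, h.sss, h.ss, h.uu, hus, h.zs, ← mul_assoc u s]
  have he : ∀ (e : Bool) (a b : SL), f (sg1 e a) * (s * f b * s) =
      f a * (s * f b * s) * cond e (f (o 1)) 1 := fun e a b => by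
    cases e
    · simp [sg1]
    · simp only [sg1, cond_true]
      rw [mul_assoc (f a), ← h.comm, ← mul_assoc (f a), ← map_mul, SL.neg_comm]
  simp only [val, mulR]
  rw [he, mul_assoc _ (cond (q && r) _ _), ← hd, mul_assoc (f a * _), ← mul_assoc (_ * _) (f c * _),
    h.delta_mul, map_mul, map_mul]
  generalize (act p q c d).1 = c'
  generalize (act p q c d).2 = d'
  rw [mul_assoc (f c' * _), ← mul_assoc (f a * _) (f c' * _), mul_assoc (f a) (s * f b * s),
    ← mul_assoc (s * f b * s), ← h.comm]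
  simp [mul_assoc, h.sss]

/-- The homomorphism from the model. -/
def hom (h : HD f s u) : H0 →* G :=
  MonoidHom.mk' (fun x => val f s u x.1) fun x y => (h.val_ngR _ _).trans (h.val_mulR _ _)

theorem hom_cl (h : HD f s u) (x : R0) : h.hom (H0.cl x) = val f s u x := h.val_ngR _ _

theorem hom_injective (h : HD f s u) : Function.Injective h.hom := by
  have h1 : ∀ k : H0, k.1.2.2 = (false, false) → h.hom k = 1 → k = 1 := by
    rintro ⟨⟨a, b, _⟩, hb⟩ rfl e
    have e1 : f a = s * f b⁻¹ * s := by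
      have e2 : f a * (s * f b * s) * (1 * 1) = 1 := e
      rw [mul_one, mul_one, mul_eq_one_iff_eq_inv] at e2
      rw [e2]; simp [inv_eq h.ss, mul_assoc]
    have e2 : s * f a * s = f a := by
      rcases h.meet _ _ e1 with rfl | rfl
      · simp [h.ss]
      · exact h.sz
    have e3 : a = b⁻¹ := h.inj (by simpa using e2.trans e1)
    obtain ⟨rfl, rfl⟩ := (by decide +kernel : ∀ a b : SL, (a = 1 ∨ a = o 1) → a = b⁻¹ →
      b.v % 2 = 0 → a = 1 ∧ b = 1) a b (h.meet _ _ e1) e3 hb
    rfl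
  rw [injective_iff_map_eq_one]
  intro k hk
  have h2 := (by decide +kernel : ∀ k : H0, (k * hi * k⁻¹ * hi⁻¹).1.2.2 = (false, false) ∧
    (k * hj * k⁻¹ * hj⁻¹).1.2.2 = (false, false) ∧
    (k * hi * k⁻¹ * hi⁻¹ = 1 → k * hj * k⁻¹ * hj⁻¹ = 1 → k.1.2.2 = (false, false))) k
  exact h1 k (h2.2.2 (h1 _ h2.1 (by simp [hk])) (h1 _ h2.2.1 (by simp [hk]))) hk

theorem hom_inl (h : HD f s u) (a : SL) : h.hom (H0.mk a 0 false false) = f a := by
  change f a * (s * f 1 * s) * (1 * 1) = _
  simp [h.ss]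

theorem hom_i (h : HD f s u) : h.hom hi = f (o 2) := h.hom_inl _
theorem hom_j (h : HD f s u) : h.hom hj = f (o 4) := h.hom_inl _
theorem hom_w (h : HD f s u) : h.hom hw = f (o 8) := h.hom_inl _
theorem hom_z (h : HD f s u) : h.hom hz = f (o 1) := h.hom_inl _

theorem hom_s (h : HD f s u) : h.hom hs0 = s := by
  change f 1 * (s * f 1 * s) * (s * 1) = _
  simp [h.ss]

theorem hom_u (h : HD f s u) : h.hom hu0 = u := by
  change f 1 * (s * f 1 * s) * (1 * u) = _
  simp [h.ss]

theorem comm_iff (h : HD f s u) (hc : Nat.card (Subgroup.centralizer {f (o 1)}) = 1152) (g : G) :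
    g * f (o 1) = f (o 1) * g ↔ ∃ k, h.hom k = g := by
  have : Finite (Subgroup.centralizer {f (o 1)}) := Nat.finite_of_card_ne_zero (by rw [hc]; norm_num)
  have h1 : h.hom.range = Subgroup.centralizer {f (o 1)} := by
    refine Subgroup.eq_of_le_of_card_ge ?_ ?_
    · rintro _ ⟨k, rfl⟩
      rw [Subgroup.mem_centralizer_singleton_iff, ← h.hom_z, ← map_mul, ← map_mul]
      exact congrArg _ ((by decide +kernel : ∀ k : H0, k * hz = hz * k) k)
    · rw [hc, ← H0.card_eq]
      exact (Nat.card_congr (MonoidHom.ofInjective h.hom_injective).toEquiv).le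
  rw [← Subgroup.mem_centralizer_singleton_iff, ← h1, MonoidHom.mem_range]

end HD

end CfsgLib.U43
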